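import Cfsg.Agent.H531.GU.Neck

/-!
# S4537, LA6-U: extremal pairs of types (helper521)

`extremal` : for nonempty sets `X1`, `X2` of types of degree `k` over `Q ^ f` and `m` over `Q`, `X1` containing a
unipotent type, there are `x1 ∈ X1` unipotent, `x2 ∈ X2` such that `(x1, x2)` is determined by its total columns
`∑ i < f, x1 [x ^ (Q ^ i)] l + x2 [x] l`.
-/

set_option autoImplicit false
set_option linter.unusedSectionVars false

namespace Cfsg.Agent.H521.GU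

open Cfsg.Agent.H615.GU

theorem exists_max_pair {α β M : Type*} [AddCommMonoid M] [LinearOrder M] [IsOrderedCancelAddMonoid M]
    {X : Set α} {Y : Set β} (hX : X.Finite) (hY : Y.Finite) (hX' : X.Nonempty) (hY' : Y.Nonempty)
    (φ : α → M) (ψ : β → M) : ∃ x ∈ X, ∃ y ∈ Y, ∀ x' ∈ X, ∀ y' ∈ Y, φ x' + ψ y' = φ x + ψ y →
      φ x' = φ x ∧ ψ y' = ψ y := by
  obtain ⟨x, hx, hx'⟩ := Set.exists_max_image X φ hX hX'
  obtain ⟨y, hy, hy'⟩ := Set.exists_max_image Y ψ hY hY'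
  refine ⟨x, hx, y, hy, fun x' h' y' h'' h => ?_⟩
  have h1 := hx' x' h'
  have h2 := hy' y' h''
  have h3 : φ x' = φ x := by
    by_contra hne
    have h4 : φ x' < φ x := lt_of_le_of_ne h1 hne
    exact absurd h (add_lt_add_of_lt_of_le h4 h2).ne
  refine ⟨h3, ?_⟩
  rw [h3] at h
  exact add_left_cancel h

variable {K : Type*} [Field K] [Finite K]

/-- the size at `1` -/
def sOne (Q : ℤ) (y : Ty (Orb K Q)) : ℕ := (y (Quotient.mk (orbSetoid K Q) 1)).size

/-- unipotent types -/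
def UniT (Q : ℤ) (y : Ty (Orb K Q)) : Prop := ∀ o : Orb K Q, y o ≠ 0 → o = Quotient.mk (orbSetoid K Q) 1

theorem size_pos {c : Col} (h : c ≠ 0) : 0 < c.size := by
  rw [Nat.pos_iff_ne_zero]
  intro h0
  apply h
  ext i
  exact Col.apply_of_size_le (by omega)

open Classical in
theorem tdeg_one (Q : ℤ) (y : Ty (Orb K Q)) : tdeg (dOrb K Q) y =
    dOrb K Q (Quotient.mk (orbSetoid K Q) 1) * sOne Q y +
      ∑ o ∈ y.support.erase (Quotient.mk (orbSetoid K Q) 1), dOrb K Q o * (y o).size := by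
  have h1 := H315.GU.tdeg_eq_sum (d := dOrb K Q) (k := y)
    (S := insert (Quotient.mk (orbSetoid K Q) 1) y.support) (Finset.subset_insert _ _)
  rw [h1, ← Finset.add_sum_erase _ _ (Finset.mem_insert_self _ _), Finset.erase_insert_eq_erase]
  rfl

theorem sOne_le {Q : ℤ} {k : ℕ} {y u : Ty (Orb K Q)} (hy : tdeg (dOrb K Q) y = k) (hu : tdeg (dOrb K Q) u = k)
    (huu : UniT Q u) : sOne Q y ≤ sOne Q u ∧ (sOne Q y = sOne Q u → UniT Q y) := by
  classical
  have h1 := tdeg_one Q y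
  have h2 := tdeg_one Q u
  have h3 : ∑ o ∈ u.support.erase (Quotient.mk (orbSetoid K Q) 1), dOrb K Q o * (u o).size = 0 := by
    refine Finset.sum_eq_zero fun o ho => ?_
    obtain ⟨h4, h5⟩ := Finset.mem_erase.1 ho
    exact absurd (huu o (Finsupp.mem_support_iff.1 h5)) h4
  rw [h3, add_zero] at h2
  have hd := H531.GU.dOrb_pos (Quotient.mk (orbSetoid K Q) 1)
  refine ⟨?_, fun h o ho => ?_⟩
  · refine Nat.le_of_mul_le_mul_left ?_ hd
    omega
  · by_contra hne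
    have h6 : o ∈ y.support.erase (Quotient.mk (orbSetoid K Q) 1) :=
      Finset.mem_erase.2 ⟨hne, Finsupp.mem_support_iff.2 ho⟩
    have h7 : dOrb K Q o * (y o).size ≤
        ∑ o ∈ y.support.erase (Quotient.mk (orbSetoid K Q) 1), dOrb K Q o * (y o).size :=
      Finset.single_le_sum (f := fun o => dOrb K Q o * (y o).size) (fun _ _ => Nat.zero_le _) h6
    have h8 := Nat.mul_pos (H531.GU.dOrb_pos o) (size_pos ho)
    rw [h] at h1
    omega

theorem uni_ext {Q : ℤ} {y u : Ty (Orb K Q)} (hy : UniT Q y) (hu : UniT Q u)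
    (h : y (Quotient.mk (orbSetoid K Q) 1) = u (Quotient.mk (orbSetoid K Q) 1)) : y = u := by
  ext1 o
  by_cases ho : o = Quotient.mk (orbSetoid K Q) 1
  · rw [ho, h]
  · have h1 : y o = 0 := by
      by_contra h1
      exact ho (hy o h1)
    have h2 : u o = 0 := by
      by_contra h2
      exact ho (hu o h2)
    rw [h1, h2]

theorem col_zero {Q : ℤ} {k l : ℕ} {y : Ty (Orb K Q)} (hy : tdeg (dOrb K Q) y = k) (hl : k ≤ l) (o : Orb K Q) :
    y o l = 0 := by
  classical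
  by_cases ho : y o = 0
  · rw [ho, Col.zero_apply]
  · refine Col.apply_of_size_le (le_trans ?_ hl)
    have h1 : dOrb K Q o * (y o).size ≤ tdeg (dOrb K Q) y :=
      Finset.single_le_sum (f := fun o => dOrb K Q o * (y o).size) (fun _ _ => Nat.zero_le _)
        (Finsupp.mem_support_iff.2 ho)
    have h2 := Nat.le_mul_of_pos_left (y o).size (H531.GU.dOrb_pos o)
    omega

theorem finite_deg' (Q : ℤ) (k : ℕ) : {lam : Ty (Orb K Q) | tdeg (dOrb K Q) lam = k}.Finite :=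
  H315.GU.finite_tofDeg (dOrb K Q) H531.GU.dOrb_pos (fun _ => Set.toFinite _) k

/-- **LA6-U**: an extremal pair -/
theorem extremal (Q : ℤ) {f : ℕ} (hf : 0 < f) (k m : ℕ) (X1 : Set (Ty (Orb K (Q ^ f)))) (X2 : Set (Ty (Orb K Q)))
    (h1 : ∀ y ∈ X1, tdeg (dOrb K (Q ^ f)) y = k) (h2 : ∀ y ∈ X2, tdeg (dOrb K Q) y = m)
    (hu : ∃ y ∈ X1, UniT (Q ^ f) y) (hne : X2.Nonempty) :
    ∃ x1 ∈ X1, UniT (Q ^ f) x1 ∧ ∃ x2 ∈ X2, ∀ y1 ∈ X1, ∀ y2 ∈ X2,
      (∀ (x : Kˣ) (l : ℕ),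
        ∑ i ∈ Finset.range f, y1 (Quotient.mk (orbSetoid K (Q ^ f)) (x ^ (Q ^ i))) l +
            y2 (Quotient.mk (orbSetoid K Q) x) l =
          ∑ i ∈ Finset.range f, x1 (Quotient.mk (orbSetoid K (Q ^ f)) (x ^ (Q ^ i))) l +
            x2 (Quotient.mk (orbSetoid K Q) x) l) → y1 = x1 ∧ y2 = x2 := by
  classical
  have hX1 : X1.Finite := (finite_deg' (Q ^ f) k).subset h1
  have hX2 : X2.Finite := (finite_deg' Q m).subset h2
  obtain ⟨u, hu1, hu2⟩ := hu
  -- the maximal size at `1`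
  obtain ⟨v, hv, hv'⟩ := Set.exists_max_image X2 (sOne Q) hX2 hne
  let Y1 : Set (Ty (Orb K (Q ^ f))) := {y ∈ X1 | UniT (Q ^ f) y}
  let Y2 : Set (Ty (Orb K Q)) := {y ∈ X2 | sOne Q y = sOne Q v}
  have hY1 : Y1.Finite := hX1.subset fun y hy => hy.1
  have hY2 : Y2.Finite := hX2.subset fun y hy => hy.1
  let N := Nat.card (Kˣ × Fin (k + m))
  let e : Fin N ≃ Kˣ × Fin (k + m) := (Finite.equivFin _).symm
  let φ : Ty (Orb K (Q ^ f)) → Lex (Fin N → ℕ) := fun y => toLex fun j =>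
    ∑ i ∈ Finset.range f, y (Quotient.mk (orbSetoid K (Q ^ f)) ((e j).1 ^ (Q ^ i))) ((e j).2 : ℕ)
  let ψ : Ty (Orb K Q) → Lex (Fin N → ℕ) := fun y => toLex fun j =>
    y (Quotient.mk (orbSetoid K Q) (e j).1) ((e j).2 : ℕ)
  obtain ⟨x1, hx1, x2, hx2, hmax⟩ := exists_max_pair hY1 hY2 ⟨u, hu1, hu2⟩ ⟨v, hv, rfl⟩ φ ψ
  refine ⟨x1, hx1.1, hx1.2, x2, hx2.1, fun y1 hy1 y2 hy2 h => ?_⟩
  -- the columns at `1`
  have hone : ∀ (y : Ty (Orb K (Q ^ f))) (l : ℕ),
      ∑ i ∈ Finset.range f, y (Quotient.mk (orbSetoid K (Q ^ f)) ((1 : Kˣ) ^ (Q ^ i))) l =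
        f * y (Quotient.mk (orbSetoid K (Q ^ f)) 1) l := by
    intro y l
    simp only [one_zpow]
    rw [Finset.sum_const, Finset.card_range, smul_eq_mul]
  -- sizes at `1`
  have hsz : f * sOne (Q ^ f) y1 + sOne Q y2 = f * sOne (Q ^ f) x1 + sOne Q x2 := by
    obtain ⟨b, hb1, hb2, hb3, hb4⟩ : ∃ b, (y1 (Quotient.mk (orbSetoid K (Q ^ f)) 1)).size ≤ b ∧
        (y2 (Quotient.mk (orbSetoid K Q) 1)).size ≤ b ∧ (x1 (Quotient.mk (orbSetoid K (Q ^ f)) 1)).size ≤ b ∧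
        (x2 (Quotient.mk (orbSetoid K Q) 1)).size ≤ b :=
      ⟨_, le_self_add.trans (le_self_add.trans le_self_add), (Nat.le_add_left _ _).trans (le_self_add.trans le_self_add),
        (Nat.le_add_left _ _).trans le_self_add, Nat.le_add_left _ _⟩
    rw [sOne, sOne, sOne, sOne, Col.size_eq_sum_range hb1, Col.size_eq_sum_range hb2, Col.size_eq_sum_range hb3,
      Col.size_eq_sum_range hb4, Finset.mul_sum, Finset.mul_sum, ← Finset.sum_add_distrib, ← Finset.sum_add_distrib]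
    refine Finset.sum_congr rfl fun l _ => ?_
    have h3 := h 1 l
    rwa [hone, hone] at h3
  have hs1 := sOne_le (h1 y1 hy1) (h1 x1 hx1.1) hx1.2
  have hs2 : sOne Q y2 ≤ sOne Q x2 := by
    rw [hx2.2]
    exact hv' y2 hy2
  have hs3 : sOne (Q ^ f) y1 = sOne (Q ^ f) x1 := by
    have h3 := Nat.mul_le_mul_left f hs1.1
    have h4 : f * sOne (Q ^ f) y1 = f * sOne (Q ^ f) x1 := by omega
    exact Nat.eq_of_mul_eq_mul_left hf h4
  have hs4 : sOne Q y2 = sOne Q v := by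
    rw [← hx2.2]
    rw [hs3] at hsz
    omega
  have hU : UniT (Q ^ f) y1 := hs1.2 hs3
  obtain ⟨h5, h6⟩ := hmax y1 ⟨hy1, hU⟩ y2 ⟨hy2, hs4⟩ (by
    refine congrArg toLex (funext fun j => ?_)
    exact h (e j).1 (e j).2)
  have h5' := fun j => congrFun (toLex.injective h5) j
  have h6' := fun j => congrFun (toLex.injective h6) j
  constructor
  · refine uni_ext hU hx1.2 ?_
    ext l
    by_cases hl : l < k + m
    · have h7 := h5' (e.symm (1, ⟨l, hl⟩))
      simp only [Equiv.apply_symm_apply] at h7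
      rw [hone, hone] at h7
      exact Nat.eq_of_mul_eq_mul_left hf h7
    · rw [col_zero (h1 y1 hy1) (by omega), col_zero (h1 x1 hx1.1) (by omega)]
  · ext o l
    obtain ⟨x, rfl⟩ := Quotient.exists_rep o
    by_cases hl : l < k + m
    · have h7 := h6' (e.symm (x, ⟨l, hl⟩))
      simp only [Equiv.apply_symm_apply] at h7
      exact h7
    · rw [col_zero (h2 y2 hy2) (by omega), col_zero (h2 x2 hx2.1) (by omega)]

end Cfsg.Agent.H521.GU
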