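import Cfsg.Agent.H521.GU.Loc
import Cfsg.Agent.H531.GU.Mac
import Cfsg.Agent.H119.GU.Mackey

/-!
# S4537, C-local: completeness of the power sums (helper521)

* `i2s`, `i3s` : the identities (I2), (I3) as stated in `H531`;
* `rl t : MvPolynomial ℕ ℂ →ₐ[ℂ] Module.End ℂ (Col → ℂ)`, `rl (X k) = Pl t (k + 1)`;
* `Dp_rl` : `Dp (k + 1)` acts on `P(Pl) vacl` by the partial derivative;
* `rl_inj` : `P(Pl) vacl = 0 → P = 0`;
* `rl_surj` : every function on the partitions of size `n` is `P(Pl) vacl` with `P` of weight `n`.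
-/

set_option autoImplicit false

open Polynomial
open scoped ComplexConjugate

namespace Cfsg.Agent.H521.GU

open Cfsg.Agent.H615.GU

theorem i2s : H531.GU.I2S := fun l n a b hab => by
  classical
  convert I2 l n a b hab

theorem i3s : H531.GU.I3S := fun _ ht n m N =>
  H119.GU.I3_of (fun p _ => H273.GU.input (ZMod p)) ht.1 ht.2 n m N

/-- the Heisenberg relation -/
theorem Dp_Pl {t : ℂ} (ht : H531.GU.Gen t) {r : ℕ} (hr : 0 < r) (m : ℕ) :
    Dp t r * Pl t m = Pl t m * Dp t r + if m = r then (r * H531.GU.kap t r) • 1 else 0 :=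
  H531.GU.ps_pp i3s ht hr m

/-! ### the homomorphism of algebras -/

section Abs

variable {B ι : Type*} [Ring B] [Algebra ℂ B] {P : ι → B}

theorem exists_hom (hP : ∀ v w, P v * P w = P w * P v) :
    ∃ φ : MvPolynomial ι ℂ →ₐ[ℂ] B, ∀ v, φ (MvPolynomial.X v) = P v := by
  have hc : IsMulCommutative (Algebra.adjoin ℂ (Set.range P)) := Algebra.isMulCommutative_adjoin ℂ (by
    rintro _ ⟨v, rfl⟩ _ ⟨w, rfl⟩
    exact hP v w)
  let : CommRing (Algebra.adjoin ℂ (Set.range P)) :=
    { (Algebra.adjoin ℂ (Set.range P)).toRing with mul_comm := fun a b => hc.is_comm.comm a b }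
  refine ⟨(Algebra.adjoin ℂ (Set.range P)).val.comp
    (MvPolynomial.aeval fun v => (⟨P v, Algebra.subset_adjoin ⟨v, rfl⟩⟩ : Algebra.adjoin ℂ (Set.range P))),
    fun v => ?_⟩
  rw [AlgHom.comp_apply, MvPolynomial.aeval_X]
  rfl

end Abs

/-- polynomials in the power sums -/
noncomputable def rl (t : ℂ) : MvPolynomial ℕ ℂ →ₐ[ℂ] Module.End ℂ (Col → ℂ) :=
  (exists_hom (P := fun k : ℕ => Pl t (k + 1)) fun v w => Pl_comm t (v + 1) (w + 1)).choose

theorem rl_X (t : ℂ) (k : ℕ) : rl t (MvPolynomial.X k) = Pl t (k + 1) :=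
  (exists_hom (P := fun k : ℕ => Pl t (k + 1)) fun v w => Pl_comm t (v + 1) (w + 1)).choose_spec k

/-! ### degrees -/

/-- operators raising the size by `a` -/
def Up (a : ℕ) (A : Module.End ℂ (Col → ℂ)) : Prop :=
  ∀ (n : ℕ) (f : Col → ℂ), (∀ l, l.size ≠ n → f l = 0) → ∀ l, l.size ≠ n + a → A f l = 0

theorem Up.mul {a b : ℕ} {A B : Module.End ℂ (Col → ℂ)} (hA : Up a A) (hB : Up b B) : Up (a + b) (A * B) := by
  intro n f hf l hl
  rw [Module.End.mul_apply]
  exact hA (n + b) _ (hB n f hf) l (by omega)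

theorem Up.sub {a : ℕ} {A B : Module.End ℂ (Col → ℂ)} (hA : Up a A) (hB : Up a B) : Up a (A - B) := by
  intro n f hf l hl
  rw [LinearMap.sub_apply, Pi.sub_apply, hA n f hf l hl, hB n f hf l hl, sub_zero]

theorem Up.add {a : ℕ} {A B : Module.End ℂ (Col → ℂ)} (hA : Up a A) (hB : Up a B) : Up a (A + B) := by
  intro n f hf l hl
  rw [LinearMap.add_apply, Pi.add_apply, hA n f hf l hl, hB n f hf l hl, add_zero]

theorem Up.smul {a : ℕ} {A : Module.End ℂ (Col → ℂ)} (c : ℂ) (hA : Up a A) : Up a (c • A) := by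
  intro n f hf l hl
  rw [LinearMap.smul_apply, Pi.smul_apply, hA n f hf l hl, smul_zero]

theorem Up.nsmul {a : ℕ} {A : Module.End ℂ (Col → ℂ)} (c : ℕ) (hA : Up a A) : Up a (c • A) := by
  intro n f hf l hl
  rw [LinearMap.smul_apply, Pi.smul_apply, hA n f hf l hl, smul_zero]

theorem Up.zero {a : ℕ} : Up a 0 := fun _ _ _ _ _ => rfl

theorem Up.one : Up 0 1 := fun _ _ hf l hl => hf l hl

theorem Up.sum {ι : Type*} (s : Finset ι) {a : ℕ} {A : ι → Module.End ℂ (Col → ℂ)} (hA : ∀ i ∈ s, Up a (A i)) :
    Up a (∑ i ∈ s, A i) := by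
  intro n f hf l hl
  rw [LinearMap.sum_apply, Finset.sum_apply]
  exact Finset.sum_eq_zero fun i hi => hA i hi n f hf l hl

theorem Up.pow {a : ℕ} {A : Module.End ℂ (Col → ℂ)} (hA : Up a A) (k : ℕ) : Up (k * a) (A ^ k) := by
  induction k with
  | zero => rw [pow_zero, Nat.zero_mul]; exact Up.one
  | succ k ih => rw [pow_succ, Nat.succ_mul]; exact ih.mul hA

variable (t : ℂ)

theorem Up_Ul (j : ℕ) : Up j (Ul t j) := by
  intro n f hf l hl
  rw [Ul_apply]
  refine Finset.sum_eq_zero fun k hk => ?_
  have hk' := (Finset.mem_filter.1 hk).2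
  rw [hf k (by omega), mul_zero]

theorem Up_Pl (j : ℕ) : Up j (Pl t j) := by
  induction j using Nat.strong_induction_on with
  | _ j ih =>
    cases j with
    | zero => rw [Pl_zero]; exact Up.zero
    | succ j =>
      rw [Pl_succ]
      refine ((Up_Ul t (j + 1)).nsmul _).sub (Up.sum _ fun i hi => ?_)
      have hi' := Finset.mem_range.1 hi
      have h := (ih (i + 1) (by omega)).mul (Up_Ul t (j - i))
      rwa [show i + 1 + (j - i) = j + 1 by omega] at h

/-- the weight of a monomial -/
noncomputable def wt (m : ℕ →₀ ℕ) : ℕ := Finsupp.weight (fun k : ℕ => k + 1) m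

theorem Up_rl_mon (m : ℕ →₀ ℕ) : Up (wt m) (rl t (MvPolynomial.monomial m 1)) := by
  induction m using Finsupp.induction_linear with
  | zero =>
    have h : rl t (MvPolynomial.monomial 0 1) = 1 := map_one _
    rw [h, wt, map_zero]
    exact Up.one
  | add m m' h h' =>
    have e : (MvPolynomial.monomial (m + m') 1 : MvPolynomial ℕ ℂ) =
        MvPolynomial.monomial m 1 * MvPolynomial.monomial m' 1 := by
      rw [MvPolynomial.monomial_mul, one_mul]
    rw [e, map_mul, wt, map_add]
    exact h.mul h'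
  | single k a =>
    have e : (MvPolynomial.monomial (Finsupp.single k a) 1 : MvPolynomial ℕ ℂ) = MvPolynomial.X k ^ a :=
      MvPolynomial.X_pow_eq_monomial.symm
    rw [e, map_pow, rl_X, wt, Finsupp.weight_single, smul_eq_mul]
    exact (Up_Pl t (k + 1)).pow a

theorem vacl_supp : ∀ l : Col, l.size ≠ 0 → (vacl : Col → ℂ) l = 0 := by
  intro l hl
  rw [vacl, if_neg]
  rintro rfl
  exact hl Col.size_zero

theorem vacl_zero : (vacl : Col → ℂ) 0 = 1 := by rw [vacl, if_pos rfl]

theorem rl_mon_supp (m : ℕ →₀ ℕ) (l : Col) (hl : l.size ≠ wt m) :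
    rl t (MvPolynomial.monomial m 1) vacl l = 0 :=
  Up_rl_mon t m 0 vacl vacl_supp l (by rwa [zero_add])

/-- the constant coefficient -/
theorem rl_zero_apply (P : MvPolynomial ℕ ℂ) : rl t P vacl 0 = MvPolynomial.coeff 0 P := by
  induction P using MvPolynomial.induction_on' with
  | monomial m a =>
    have h : (MvPolynomial.monomial m a : MvPolynomial ℕ ℂ) = a • MvPolynomial.monomial m 1 := by
      rw [MvPolynomial.smul_monomial, smul_eq_mul, mul_one]
    rw [h, map_smul, LinearMap.smul_apply, Pi.smul_apply, MvPolynomial.coeff_smul, MvPolynomial.coeff_monomial]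
    by_cases hm : m = 0
    · subst hm
      have h1 : rl t (MvPolynomial.monomial 0 1) = 1 := map_one _
      rw [h1, if_pos rfl, Module.End.one_apply, vacl_zero]
    · rw [if_neg hm, rl_mon_supp]
      rw [Col.size_zero]
      intro h0
      apply hm
      ext k
      by_contra hk
      have h1 : m k * (k + 1) ≤ wt m := by
        rw [wt, Finsupp.weight_apply, Finsupp.sum]
        have := Finset.single_le_sum (f := fun k => m k • (k + 1)) (fun _ _ => Nat.zero_le _)
          (Finsupp.mem_support_iff.2 hk : k ∈ m.support)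
        simpa using this
      rw [← h0] at h1
      have h2 : 0 < m k * (k + 1) := Nat.mul_pos (Nat.pos_of_ne_zero hk) (Nat.succ_pos k)
      omega
  | add p q hp hq => rw [map_add, LinearMap.add_apply, Pi.add_apply, hp, hq, MvPolynomial.coeff_add]

/-! ### derivatives -/

variable {t} (ht : H531.GU.Gen t)
include ht

theorem Dp_rl (k : ℕ) (P : MvPolynomial ℕ ℂ) : Dp t (k + 1) * rl t P = rl t P * Dp t (k + 1) +
    (((k + 1 : ℕ) : ℂ) * H531.GU.kap t (k + 1)) • rl t (MvPolynomial.pderiv k P) := by
  induction P using MvPolynomial.induction_on with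
  | C a =>
    have h : rl t (MvPolynomial.C a) = algebraMap ℂ _ a := (rl t).commutes a
    rw [MvPolynomial.pderiv_C, map_zero, smul_zero, add_zero, h]
    exact (Algebra.commutes a _).symm
  | add p q hp hq =>
    rw [map_add, map_add, map_add, mul_add, hp, hq]
    simp only [smul_add, add_mul]
    abel
  | mul_X p v hp =>
    rw [map_mul, rl_X, ← mul_assoc, hp, add_mul, mul_assoc, Dp_Pl ht (Nat.succ_pos k), mul_add, ← mul_assoc,
      MvPolynomial.pderiv_mul, map_add, map_mul, map_mul, rl_X, MvPolynomial.pderiv_X]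
    by_cases hv : v = k
    · subst hv
      rw [if_pos rfl, Pi.single_eq_same, map_one, mul_one, mul_smul_comm, mul_one, smul_add, smul_mul_assoc]
      abel
    · rw [if_neg (by omega), Pi.single_eq_of_ne hv, map_zero, mul_zero, add_zero, add_zero, smul_mul_assoc]

theorem Dp_rl_vacl (k : ℕ) (P : MvPolynomial ℕ ℂ) : Dp t (k + 1) (rl t P vacl) =
    (((k + 1 : ℕ) : ℂ) * H531.GU.kap t (k + 1)) • rl t (MvPolynomial.pderiv k P) vacl := by
  have h := LinearMap.congr_fun (Dp_rl ht k P) vacl
  rw [LinearMap.add_apply, Module.End.mul_apply, Module.End.mul_apply, Dp_vacl, map_zero, zero_add,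
    LinearMap.smul_apply] at h
  exact h

theorem kap_ne (k : ℕ) : (((k + 1 : ℕ) : ℂ) * H531.GU.kap t (k + 1)) ≠ 0 := by
  have h := H531.GU.kap_mul ht (Nat.succ_pos k)
  refine mul_ne_zero (by exact_mod_cast Nat.succ_ne_zero k) fun h0 => ?_
  rw [h0, zero_mul] at h
  exact zero_ne_one h

/-- `P(Pl) vacl = 0` only for `P = 0` -/
theorem rl_inj {P : MvPolynomial ℕ ℂ} (hP : rl t P vacl = 0) : P = 0 := by
  have key : ∀ n : ℕ, ∀ m : ℕ →₀ ℕ, m.degree = n → ∀ P : MvPolynomial ℕ ℂ, rl t P vacl = 0 →
      MvPolynomial.coeff m P = 0 := by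
    intro n
    induction n with
    | zero =>
      intro m hm P hP
      have hm0 : m = 0 := (Finsupp.degree_eq_zero_iff m).1 hm
      rw [hm0, ← rl_zero_apply t P, hP]
      rfl
    | succ n ih =>
      intro m hm P hP
      have hm0 : m ≠ 0 := by
        rintro rfl
        rw [map_zero] at hm
        omega
      obtain ⟨k, hk⟩ := Finsupp.ne_iff.1 hm0
      have hk' : 1 ≤ m k := Nat.one_le_iff_ne_zero.2 hk
      have hm' : m - Finsupp.single k 1 + Finsupp.single k 1 = m :=
        tsub_add_cancel_of_le (Finsupp.single_le_iff.2 hk')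
      have hd : (m - Finsupp.single k 1).degree = n := by
        have := congrArg Finsupp.degree hm'
        rw [map_add, Finsupp.degree_single, hm] at this
        omega
      have h1 : rl t (MvPolynomial.pderiv k P) vacl = 0 := by
        have h2 := Dp_rl_vacl ht k P
        rw [hP, map_zero] at h2
        exact (smul_eq_zero.1 h2.symm).resolve_left (kap_ne ht k)
      have h3 := ih (m - Finsupp.single k 1) hd _ h1
      rw [MvPolynomial.coeff_pderiv, hm'] at h3
      rcases mul_eq_zero.1 h3 with h4 | h4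
      · exact h4
      · exact absurd h4 (Nat.cast_add_one_ne_zero _)
  exact MvPolynomial.ext _ _ fun m => by rw [key _ m rfl P hP, MvPolynomial.coeff_zero]

omit ht

/-! ### monomials and partitions -/

/-- the monomial attached to a partition: `k + 1` occurs `l k - l (k + 1)` times -/
noncomputable def mon (l : Col) : ℕ →₀ ℕ :=
  Finsupp.onFinset l.1.support (fun k => l k - l (k + 1)) fun k hk => by
    rw [Finsupp.mem_support_iff]
    intro h0
    apply hk
    have : l k = 0 := h0
    omega

theorem mon_apply (l : Col) (k : ℕ) : mon l k = l k - l (k + 1) := rfl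

theorem mon_injective : Function.Injective mon := by
  intro l l' h
  have key : ∀ j k : ℕ, l.size + l'.size ≤ k + j → l k = l' k := by
    intro j
    induction j with
    | zero =>
      intro k hk
      rw [Col.apply_of_size_le (l := l) (by omega), Col.apply_of_size_le (l := l') (by omega)]
    | succ j ih =>
      intro k hk
      have h1 := ih (k + 1) (by omega)
      have h2 : l k - l (k + 1) = l' k - l' (k + 1) := DFunLike.congr_fun h k
      have h3 := l.anti (Nat.le_succ k)
      have h4 := l'.anti (Nat.le_succ k)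
      simp only [Nat.succ_eq_add_one] at h3 h4
      omega
  ext k
  exact key (l.size + l'.size) k (Nat.le_add_left _ _)

theorem abel_sum (f : ℕ → ℕ) (hf : Antitone f) (B : ℕ) :
    ∑ k ∈ Finset.range B, (f k - f (k + 1)) * (k + 1) + B * f B = ∑ k ∈ Finset.range B, f k := by
  induction B with
  | zero => simp
  | succ B ih =>
    rw [Finset.sum_range_succ, Finset.sum_range_succ, ← ih]
    obtain ⟨c, hc⟩ := Nat.exists_eq_add_of_le (hf (Nat.le_succ B))
    simp only [Nat.succ_eq_add_one] at hc
    rw [hc, Nat.add_sub_cancel_left]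
    ring

theorem wt_mon (l : Col) : wt (mon l) = l.size := by
  have hs : (mon l).support ⊆ Finset.range l.size := by
    intro k hk
    rw [Finset.mem_range]
    by_contra hcon
    rw [Finsupp.mem_support_iff, mon_apply, Col.apply_of_size_le (not_lt.1 hcon)] at hk
    exact hk (Nat.zero_sub _)
  have h1 : (mon l).sum (fun i c => c • (i + 1)) = ∑ i ∈ Finset.range l.size, mon l i • (i + 1) :=
    Finsupp.sum_of_support_subset _ hs _ fun _ _ => zero_smul ℕ _
  have h2 := abel_sum l l.anti l.size
  rw [Col.apply_size, mul_zero, add_zero, ← Col.size_eq_sum_range (l := l) le_rfl] at h2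
  rw [wt, Finsupp.weight_apply, h1]
  exact h2

theorem mon_surj (m : ℕ →₀ ℕ) : ∃ l : Col, mon l = m := by
  obtain ⟨b, hb⟩ := m.support.exists_nat_subset_range
  have hz : ∀ k, b ≤ k → m k = 0 := fun k hk => by
    by_contra h
    exact absurd (Finset.mem_range.1 (hb (Finsupp.mem_support_iff.2 h))) (by omega)
  have ha : Antitone fun k => ∑ i ∈ Finset.Ico k b, m i := by
    intro i j hij
    exact Finset.sum_le_sum_of_subset (Finset.Ico_subset_Ico_left hij)
  have hb0 : (fun k => ∑ i ∈ Finset.Ico k b, m i) b = 0 := by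
    show ∑ i ∈ Finset.Ico b b, m i = 0
    rw [Finset.Ico_self, Finset.sum_empty]
  refine ⟨mkCol (fun k => ∑ i ∈ Finset.Ico k b, m i) ha b hb0, ?_⟩
  · ext k
    show ∑ i ∈ Finset.Ico k b, m i - ∑ i ∈ Finset.Ico (k + 1) b, m i = m k
    by_cases hk : k < b
    · rw [Finset.sum_eq_sum_Ico_succ_bot hk, Nat.add_sub_cancel_right]
    · rw [hz k (by omega), Finset.Ico_eq_empty (by omega), Finset.sum_empty, Nat.zero_sub]

include ht

/-- **completeness**: every function on the partitions of size `n` is `P(Pl) vacl` with `P` of weight `n` -/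
theorem rl_surj (n : ℕ) (f : Col → ℂ) (hf : ∀ l : Col, l.size ≠ n → f l = 0) :
    ∃ P : MvPolynomial ℕ ℂ, P.IsWeightedHomogeneous (fun k : ℕ => k + 1) n ∧ rl t P vacl = f := by
  classical
  let Q : (Col.ofSize n → ℂ) → MvPolynomial ℕ ℂ := fun c => ∑ m : Col.ofSize n, MvPolynomial.monomial (mon m.1) (c m)
  have hQw : ∀ c, (Q c).IsWeightedHomogeneous (fun k : ℕ => k + 1) n := by
    intro c
    refine MvPolynomial.IsWeightedHomogeneous.sum _ _ _ fun m _ => ?_
    refine MvPolynomial.isWeightedHomogeneous_monomial _ _ _ ?_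
    exact (wt_mon m.1).trans (Col.mem_ofSize.1 m.2)
  have hQs : ∀ c (l : Col), l.size ≠ n → rl t (Q c) vacl l = 0 := by
    intro c l hl
    simp only [Q]
    rw [map_sum, LinearMap.sum_apply, Finset.sum_apply]
    refine Finset.sum_eq_zero fun m _ => ?_
    have h : (MvPolynomial.monomial (mon m.1) (c m) : MvPolynomial ℕ ℂ) = c m • MvPolynomial.monomial (mon m.1) 1 := by
      rw [MvPolynomial.smul_monomial, smul_eq_mul, mul_one]
    rw [h, map_smul, LinearMap.smul_apply, Pi.smul_apply, rl_mon_supp, smul_zero]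
    rwa [wt_mon, Col.mem_ofSize.1 m.2]
  let Ψ : (Col.ofSize n → ℂ) →ₗ[ℂ] (Col.ofSize n → ℂ) :=
    { toFun := fun c l => rl t (Q c) vacl l.1
      map_add' := fun c c' => by
        funext l
        have h : Q (c + c') = Q c + Q c' := by
          simp only [Q]
          rw [← Finset.sum_add_distrib]
          exact Finset.sum_congr rfl fun m _ => by rw [Pi.add_apply, map_add]
        rw [h, map_add, LinearMap.add_apply]
        rfl
      map_smul' := fun a c => by
        funext l
        have h : Q (a • c) = a • Q c := by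
          simp only [Q]
          rw [Finset.smul_sum]
          exact Finset.sum_congr rfl fun m _ => by
            rw [Pi.smul_apply, MvPolynomial.smul_monomial]
        rw [h, map_smul, LinearMap.smul_apply]
        rfl }
  have hinj : Function.Injective Ψ := by
    rw [injective_iff_map_eq_zero]
    intro c hc
    have h1 : rl t (Q c) vacl = 0 := by
      funext l
      by_cases hl : l.size = n
      · exact congrFun hc ⟨l, Col.mem_ofSize.2 hl⟩
      · exact hQs c l hl
    have h2 := rl_inj ht h1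
    funext m
    have h3 := congrArg (MvPolynomial.coeff (mon m.1)) h2
    simp only [Q] at h3
    rw [MvPolynomial.coeff_sum, MvPolynomial.coeff_zero, Finset.sum_eq_single m] at h3
    · rw [MvPolynomial.coeff_monomial, if_pos rfl] at h3
      exact h3
    · intro m' _ hm'
      rw [MvPolynomial.coeff_monomial, if_neg]
      intro h4
      exact hm' (Subtype.ext (mon_injective h4))
    · intro h4
      exact absurd (Finset.mem_univ _) h4
  obtain ⟨c, hc⟩ := (LinearMap.injective_iff_surjective (f := Ψ)).1 hinj fun l => f l.1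
  refine ⟨Q c, hQw c, ?_⟩
  funext l
  by_cases hl : l.size = n
  · exact congrFun hc ⟨l, Col.mem_ofSize.2 hl⟩
  · rw [hQs c l hl, hf l hl]

omit ht

theorem rl_mon_list (t : ℂ) (m : ℕ →₀ ℕ) : ∃ L : List ℕ, (∀ i ∈ L, 0 < i) ∧ L.sum = wt m ∧
    rl t (MvPolynomial.monomial m 1) = (L.map (Pl t)).prod := by
  induction m using Finsupp.induction_linear with
  | zero =>
    refine ⟨[], by simp, ?_, ?_⟩
    · rw [wt, map_zero, List.sum_nil]
    · rw [List.map_nil, List.prod_nil]
      exact map_one _
  | add m m' h h' =>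
    obtain ⟨L, h1, h2, h3⟩ := h
    obtain ⟨L', h1', h2', h3'⟩ := h'
    refine ⟨L ++ L', ?_, ?_, ?_⟩
    · intro i hi
      rcases List.mem_append.1 hi with hi | hi
      · exact h1 i hi
      · exact h1' i hi
    · rw [List.sum_append, h2, h2', wt, wt, wt, map_add]
    · have e : (MvPolynomial.monomial (m + m') 1 : MvPolynomial ℕ ℂ) =
          MvPolynomial.monomial m 1 * MvPolynomial.monomial m' 1 := by
        rw [MvPolynomial.monomial_mul, one_mul]
      rw [e, map_mul, h3, h3', List.map_append, List.prod_append]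
  | single k a =>
    refine ⟨List.replicate a (k + 1), ?_, ?_, ?_⟩
    · intro i hi
      rw [List.eq_of_mem_replicate hi]
      exact Nat.succ_pos k
    · rw [List.sum_replicate, wt, Finsupp.weight_single]
    · have e : (MvPolynomial.monomial (Finsupp.single k a) 1 : MvPolynomial ℕ ℂ) = MvPolynomial.X k ^ a :=
        MvPolynomial.X_pow_eq_monomial.symm
      rw [e, map_pow, rl_X, List.map_replicate, List.prod_replicate]

/-- completeness, in terms of lists of power sums -/
theorem loc_span {t : ℂ} (h0 : t ≠ 0) (ht : ∀ i : ℕ, 0 < i → t ^ i ≠ 1) (n : ℕ) (f : Col → ℂ)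
    (hf : ∀ l : Col, f l ≠ 0 → l.size = n) : f ∈ Submodule.span ℂ
      {g : Col → ℂ | ∃ L : List ℕ, (∀ i ∈ L, 0 < i) ∧ L.sum = n ∧ g = (L.map (Pl t)).prod vacl} := by
  obtain ⟨P, hP, hPf⟩ := rl_surj (t := t) ⟨h0, ht⟩ n f fun l hl => by
    by_contra h
    exact hl (hf l h)
  rw [← hPf, P.as_sum, map_sum, LinearMap.sum_apply]
  refine Submodule.sum_mem _ fun m hm => ?_
  have h : (MvPolynomial.monomial m (MvPolynomial.coeff m P) : MvPolynomial ℕ ℂ) =
      MvPolynomial.coeff m P • MvPolynomial.monomial m 1 := by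
    rw [MvPolynomial.smul_monomial, smul_eq_mul, mul_one]
  rw [h, map_smul, LinearMap.smul_apply]
  refine Submodule.smul_mem _ _ (Submodule.subset_span ?_)
  obtain ⟨L, h1, h2, h3⟩ := rl_mon_list t m
  exact ⟨L, h1, h2.trans (hP (MvPolynomial.mem_support_iff.1 hm)), by rw [h3]⟩

end Cfsg.Agent.H521.GU
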