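import Cfsg.Agent.H615.GU.Col

/-!
# S4537, part A1: the Hom identity (helper521)

* `gb_mul_glp` : `[B; j] |GL_j| = ∏ i < j, (t^B - t^i)`;
* `sum_gb` : `∑ j, [A; j] [B; j] |GL_j| = t^(A B)`;
* `tl`, `cs` : removing and adding a first column;
* `Np_eq_zero`, `Np_self`, `ev_ap_ne_zero`, `I1`.
-/

set_option autoImplicit false

open Polynomial

namespace Cfsg.Agent.H521.GU

open Cfsg.Agent.H615.GU

/-! ### `q`-binomial identities -/

/-- number of injective maps -/
noncomputable def ei (B j : ℕ) : ℤ[X] := ∏ i ∈ Finset.range j, (X ^ B - X ^ i)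

theorem ei_zero (B : ℕ) : ei B 0 = 1 := by simp [ei]

theorem ei_succ (B j : ℕ) : ei B (j + 1) = ei B j * (X ^ B - X ^ j) := by
  rw [ei, Finset.prod_range_succ]; rfl

theorem ei_succ' (B j : ℕ) : ei (B + 1) (j + 1) = (X ^ (B + 1) - 1) * X ^ j * ei B j := by
  rw [ei, Finset.prod_range_succ', pow_zero]
  have h : ∏ i ∈ Finset.range j, ((X : ℤ[X]) ^ (B + 1) - X ^ (i + 1)) = X ^ j * ei B j := by
    rw [ei]
    have h1 : (X : ℤ[X]) ^ j = ∏ _i ∈ Finset.range j, X := by simp
    rw [h1, ← Finset.prod_mul_distrib]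
    refine Finset.prod_congr rfl fun i _ => ?_
    ring
  rw [h]
  ring

theorem ei_self (j : ℕ) : ei j j = glp j := rfl

theorem glp_succ (j : ℕ) : glp (j + 1) = (X ^ (j + 1) - 1) * X ^ j * glp j := by
  rw [← ei_self, ei_succ', ei_self]

theorem gb_mul_glp : ∀ B j : ℕ, gb B j * glp j = ei B j
  | B, 0 => by simp [ei_zero]
  | 0, j + 1 => by
    rw [gb_zero_succ, zero_mul, ei, Finset.prod_range_succ', pow_zero, sub_self, mul_zero]
  | B + 1, j + 1 => by
    have h1 := gb_mul_glp B (j + 1)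
    have h2 := gb_mul_glp B j
    rw [gb_succ, add_mul, mul_assoc, h1, ei_succ, ei_succ', glp_succ]
    have h3 : gb B j * ((X ^ (j + 1) - 1) * X ^ j * glp j) = (X ^ (j + 1) - 1) * X ^ j * ei B j := by
      rw [← h2]; ring
    rw [h3]
    ring

/-- `∑ j, [A; j] [B; j] |GL_j| = t^(A B)` -/
theorem sum_gb (A B : ℕ) : ∑ j ∈ Finset.range (A + 1), gb A j * gb B j * glp j = X ^ (A * B) := by
  have h : ∀ A : ℕ, ∑ j ∈ Finset.range (A + 1), gb A j * ei B j = X ^ (A * B) := by
    intro A
    induction A with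
    | zero => simp [ei_zero]
    | succ A ih =>
      rw [Finset.sum_range_succ', gb_zero, ei_zero, mul_one]
      have h1 : ∀ j, gb (A + 1) (j + 1) * ei B (j + 1) =
          X ^ (j + 1) * (gb A (j + 1) * ei B (j + 1)) + gb A j * ei B j * (X ^ B - X ^ j) := by
        intro j
        rw [gb_succ, ei_succ]
        ring
      rw [Finset.sum_congr rfl fun j _ => h1 j, Finset.sum_add_distrib]
      have h2 : ∑ j ∈ Finset.range (A + 1), X ^ (j + 1) * (gb A (j + 1) * ei B (j + 1)) + 1 =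
          ∑ j ∈ Finset.range (A + 1), X ^ j * (gb A j * ei B j) := by
        rw [Finset.sum_range_succ (fun j => X ^ (j + 1) * (gb A (j + 1) * ei B (j + 1))),
          gb_eq_zero (Nat.lt_succ_self A), zero_mul, mul_zero, add_zero,
          Finset.sum_range_succ' (fun j => X ^ j * (gb A j * ei B j)), gb_zero, ei_zero]
        simp
      calc ∑ j ∈ Finset.range (A + 1), X ^ (j + 1) * (gb A (j + 1) * ei B (j + 1)) +
            ∑ j ∈ Finset.range (A + 1), gb A j * ei B j * (X ^ B - X ^ j) + 1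
          = (∑ j ∈ Finset.range (A + 1), X ^ (j + 1) * (gb A (j + 1) * ei B (j + 1)) + 1) +
            ∑ j ∈ Finset.range (A + 1), gb A j * ei B j * (X ^ B - X ^ j) := by ring
        _ = ∑ j ∈ Finset.range (A + 1), (X ^ j * (gb A j * ei B j) + gb A j * ei B j * (X ^ B - X ^ j)) := by
            rw [h2, Finset.sum_add_distrib]
        _ = ∑ j ∈ Finset.range (A + 1), X ^ B * (gb A j * ei B j) := by
            refine Finset.sum_congr rfl fun j _ => ?_
            ring
        _ = X ^ ((A + 1) * B) := by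
            rw [← Finset.mul_sum, ih]; ring
  rw [← h A]
  refine Finset.sum_congr rfl fun j _ => ?_
  rw [mul_assoc, gb_mul_glp]

theorem gb_self : ∀ n : ℕ, gb n n = 1
  | 0 => rfl
  | n + 1 => by rw [gb_succ, gb_eq_zero (Nat.lt_succ_self n), gb_self n, mul_zero, zero_add]

/-! ### Adding and removing the first column -/

theorem eventually_zero (l : Col) : ∀ i, l.size ≤ i → l i = 0 := fun _ h => Col.apply_of_size_le h

/-- a partition from a function -/
noncomputable def mkCol (f : ℕ → ℕ) (h : Antitone f) (b : ℕ) (hb : f b = 0) : Col :=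
  ⟨Finsupp.onFinset (Finset.range b) f (fun i hi => by
    rw [Finset.mem_range]
    by_contra hcon
    exact hi (Nat.le_zero.1 ((h (not_lt.1 hcon)).trans_eq hb))), h⟩

theorem mkCol_apply (f : ℕ → ℕ) (h : Antitone f) (b : ℕ) (hb : f b = 0) (i : ℕ) : mkCol f h b hb i = f i := rfl

/-- remove the first column -/
noncomputable def tl (l : Col) : Col :=
  mkCol (fun i => l (i + 1)) (fun _ _ h => l.anti (Nat.succ_le_succ h)) l.size
    (Col.apply_of_size_le (Nat.le_succ _))

@[simp] theorem tl_apply (l : Col) (i : ℕ) : tl l i = l (i + 1) := rfl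

/-- add a first column, longer by `j` than the first one -/
noncomputable def cs (j : ℕ) (k : Col) : Col :=
  mkCol (fun i => Nat.casesOn i (k 0 + j) (fun i => k i)) (by
    apply antitone_nat_of_succ_le
    intro i
    cases i with
    | zero => exact Nat.le_add_right _ _
    | succ i => exact k.anti (Nat.le_succ i)) (k.size + 1) (Col.apply_of_size_le le_rfl)

@[simp] theorem cs_zero (j : ℕ) (k : Col) : cs j k 0 = k 0 + j := rfl
@[simp] theorem cs_succ (j : ℕ) (k : Col) (i : ℕ) : cs j k (i + 1) = k i := rfl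

theorem tl_cs (j : ℕ) (k : Col) : tl (cs j k) = k := Col.ext fun _ => rfl

theorem cs_tl (k : Col) : cs (k 0 - k 1) (tl k) = k := by
  ext i
  cases i with
  | zero =>
    rw [cs_zero, tl_apply]
    have h1 : k 1 ≤ k 0 := k.anti (Nat.zero_le 1)
    have h2 : k (0 + 1) = k 1 := rfl
    rw [h2]
    omega
  | succ i => rfl

theorem le_iff {k l : Col} : k ≤ l ↔ tl k ≤ tl l ∧ k 0 ≤ l 0 := by
  rw [Col.le_def, Col.le_def]
  constructor
  · exact fun h => ⟨fun i => h (i + 1), h 0⟩
  · rintro ⟨h1, h2⟩ i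
    cases i with
    | zero => exact h2
    | succ i => exact h1 i

/-! ### the products over a range -/

theorem Np_eq_range (l n : Col) {b : ℕ} (hb : ∀ i, b ≤ i → n i = 0) :
    Np l n = ∏ i ∈ Finset.range b, (X ^ (n (i + 1) * (l i - n i)) * gb (l i - n (i + 1)) (n i - n (i + 1))) := by
  refine Finset.prod_subset ?_ ?_
  · intro i hi
    rw [Finset.mem_range]
    by_contra hcon
    exact (Finsupp.mem_support_iff.1 hi) (hb i (not_lt.1 hcon))
  · intro i _ hi
    have h0 : n i = 0 := Finsupp.notMem_support_iff.1 hi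
    have h1 : n (i + 1) = 0 := Nat.le_zero.1 ((n.anti (Nat.le_succ i)).trans_eq h0)
    rw [h0, h1]
    simp

theorem ap_eq_range (l : Col) {b : ℕ} (hb : ∀ i, b ≤ i → l i = 0) :
    ap l = ∏ i ∈ Finset.range b, (X ^ (l i ^ 2 - (l i - l (i + 1)) ^ 2) * glp (l i - l (i + 1))) := by
  refine Finset.prod_subset ?_ ?_
  · intro i hi
    rw [Finset.mem_range]
    by_contra hcon
    exact (Finsupp.mem_support_iff.1 hi) (hb i (not_lt.1 hcon))
  · intro i _ hi
    have h0 : l i = 0 := Finsupp.notMem_support_iff.1 hi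
    have h1 : l (i + 1) = 0 := Nat.le_zero.1 ((l.anti (Nat.le_succ i)).trans_eq h0)
    rw [h0, h1]
    simp

theorem ip_eq_range (l m : Col) {b : ℕ} (hb : ∀ i, b ≤ i → l i = 0) :
    l.ip m = ∑ i ∈ Finset.range b, l i * m i := by
  refine Finset.sum_subset ?_ ?_
  · intro i hi
    rw [Finset.mem_range]
    by_contra hcon
    exact (Finsupp.mem_support_iff.1 hi) (hb i (not_lt.1 hcon))
  · intro i _ hi
    have h0 : l i = 0 := Finsupp.notMem_support_iff.1 hi
    show l i * m i = 0
    rw [h0, zero_mul]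

theorem Np_rec (l n : Col) :
    Np l n = X ^ (n 1 * (l 0 - n 0)) * gb (l 0 - n 1) (n 0 - n 1) * Np (tl l) (tl n) := by
  have hb : ∀ i, n.size + 1 ≤ i → n i = 0 := fun i hi => Col.apply_of_size_le (by omega)
  have hb' : ∀ i, n.size ≤ i → tl n i = 0 := fun i hi => hb (i + 1) (by omega)
  rw [Np_eq_range l n hb, Np_eq_range (tl l) (tl n) hb', Finset.prod_range_succ', mul_comm]
  rfl

theorem ap_rec (n : Col) : ap n = X ^ (n 0 ^ 2 - (n 0 - n 1) ^ 2) * glp (n 0 - n 1) * ap (tl n) := by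
  have hb : ∀ i, n.size + 1 ≤ i → n i = 0 := fun i hi => Col.apply_of_size_le (by omega)
  have hb' : ∀ i, n.size ≤ i → tl n i = 0 := fun i hi => hb (i + 1) (by omega)
  rw [ap_eq_range n hb, ap_eq_range (tl n) hb', Finset.prod_range_succ', mul_comm]
  rfl

theorem ip_rec (l m : Col) : l.ip m = l 0 * m 0 + (tl l).ip (tl m) := by
  have hb : ∀ i, l.size + 1 ≤ i → l i = 0 := fun i hi => Col.apply_of_size_le (by omega)
  have hb' : ∀ i, l.size ≤ i → tl l i = 0 := fun i hi => hb (i + 1) (by omega)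
  rw [ip_eq_range l m hb, ip_eq_range (tl l) (tl m) hb', Finset.sum_range_succ', add_comm]
  rfl

/-! ### the results -/

theorem Np_eq_zero {l k : Col} (h : ¬ k ≤ l) : Np l k = 0 := by
  have key : ∀ b : ℕ, ∀ l k : Col, (∀ i, b ≤ i → k i = 0) → ¬ k ≤ l → Np l k = 0 := by
    intro b
    induction b with
    | zero =>
      intro l k hk h
      exact absurd (fun i => by rw [hk i (Nat.zero_le _)]; exact Nat.zero_le _) h
    | succ b ih =>
      intro l k hk h
      rw [Np_rec]
      by_cases h1 : tl k ≤ tl l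
      · have h0 : ¬ k 0 ≤ l 0 := fun h0 => h (le_iff.2 ⟨h1, h0⟩)
        have h2 : k 1 ≤ l 1 := h1 0
        have h3 : l 1 ≤ l 0 := l.anti (Nat.zero_le 1)
        rw [gb_eq_zero (by omega), mul_zero, zero_mul]
      · rw [ih (tl l) (tl k) (fun i hi => hk (i + 1) (by omega)) h1, mul_zero]
  exact key k.size l k (eventually_zero k) h

theorem Np_self (l : Col) : Np l l = 1 := by
  rw [Np]
  refine Finset.prod_eq_one fun i _ => ?_
  rw [Nat.sub_self, mul_zero, pow_zero, gb_self, one_mul]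

theorem ev_glp_ne_zero {t : ℂ} (h0 : t ≠ 0) (ht : ∀ i : ℕ, 0 < i → t ^ i ≠ 1) (m : ℕ) : ev t (glp m) ≠ 0 := by
  rw [ev, glp, map_prod]
  refine Finset.prod_ne_zero_iff.2 fun j hj => ?_
  have hj' : j < m := Finset.mem_range.1 hj
  rw [map_sub, map_pow, map_pow, aeval_X, sub_ne_zero]
  intro h
  apply ht (m - j) (by omega)
  have h1 : t ^ m = t ^ j * t ^ (m - j) := by rw [← pow_add]; congr 1; omega
  rw [h1] at h
  exact mul_left_cancel₀ (pow_ne_zero j h0) (by rw [h, mul_one])

theorem ev_ap_ne_zero {t : ℂ} (h0 : t ≠ 0) (ht : ∀ i : ℕ, 0 < i → t ^ i ≠ 1) (l : Col) : ev t (ap l) ≠ 0 := by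
  rw [ev, ap, map_prod]
  refine Finset.prod_ne_zero_iff.2 fun j _ => ?_
  rw [map_mul, map_pow, aeval_X]
  exact mul_ne_zero (pow_ne_zero _ h0) (ev_glp_ne_zero h0 ht _)

/-- the sum over the first column -/
theorem sum_first {l0 m0 b : ℕ} (hl : b ≤ l0) (hm : b ≤ m0) :
    ∑ j ∈ Finset.range (l0 - b + 1), (X ^ (b * (l0 - (b + j))) * gb (l0 - b) (b + j - b)) *
      (X ^ (b * (m0 - (b + j))) * gb (m0 - b) (b + j - b)) *
      (X ^ ((b + j) ^ 2 - (b + j - b) ^ 2) * glp (b + j - b)) = (X : ℤ[X]) ^ (l0 * m0) := by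
  have h1 : ∀ j ∈ Finset.range (l0 - b + 1), (X ^ (b * (l0 - (b + j))) * gb (l0 - b) (b + j - b)) *
      (X ^ (b * (m0 - (b + j))) * gb (m0 - b) (b + j - b)) *
      (X ^ ((b + j) ^ 2 - (b + j - b) ^ 2) * glp (b + j - b)) =
      (X : ℤ[X]) ^ (b * (l0 + m0 - b)) * (gb (l0 - b) j * gb (m0 - b) j * glp j) := by
    intro j hj
    rw [Finset.mem_range] at hj
    rw [Nat.add_sub_cancel_left]
    by_cases hjm : j ≤ m0 - b
    · have h2 : b * (l0 - (b + j)) + b * (m0 - (b + j)) + ((b + j) ^ 2 - j ^ 2) = b * (l0 + m0 - b) := by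
        obtain ⟨c, rfl⟩ : ∃ c, l0 = b + j + c := ⟨l0 - (b + j), by omega⟩
        obtain ⟨d, rfl⟩ : ∃ d, m0 = b + j + d := ⟨m0 - (b + j), by omega⟩
        have e1 : (b + j) ^ 2 - j ^ 2 = b ^ 2 + 2 * b * j := by
          have : (b + j) ^ 2 = (b ^ 2 + 2 * b * j) + j ^ 2 := by ring
          rw [this, Nat.add_sub_cancel]
        have e2 : b + j + c + (b + j + d) - b = b + 2 * j + c + d := by omega
        rw [e1, e2, Nat.add_sub_cancel_left, Nat.add_sub_cancel_left]
        ring
      rw [← h2, pow_add, pow_add]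
      ring
    · rw [gb_eq_zero (n := m0 - b) (k := j) (by omega)]
      ring
  rw [Finset.sum_congr rfl h1, ← Finset.mul_sum, sum_gb, ← pow_add]
  congr 1
  obtain ⟨c, rfl⟩ : ∃ c, l0 = b + c := ⟨l0 - b, by omega⟩
  obtain ⟨d, rfl⟩ : ∃ d, m0 = b + d := ⟨m0 - b, by omega⟩
  have e2 : b + c + (b + d) - b = b + c + d := by omega
  rw [e2, Nat.add_sub_cancel_left, Nat.add_sub_cancel_left]
  ring

/-- reindexing of the sum over `below l` by the first column -/
theorem sum_below (l : Col) (f : Col → ℤ[X]) :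
    ∑ k ∈ Col.below l, f k = ∑ k ∈ Col.below (tl l), ∑ j ∈ Finset.range (l 0 - k 0 + 1), f (cs j k) := by
  rw [Finset.sum_sigma']
  refine Finset.sum_bij' (fun k _ => ⟨tl k, k 0 - k 1⟩) (fun x _ => cs x.2 x.1) ?_ ?_ ?_ ?_ ?_
  · intro k hk
    rw [Col.mem_below] at hk
    obtain ⟨h1, h0⟩ := le_iff.1 hk
    have h2 : tl k 0 = k 1 := rfl
    rw [Finset.mem_sigma, Col.mem_below, Finset.mem_range]
    refine ⟨h1, ?_⟩
    show k 0 - k 1 < l 0 - tl k 0 + 1
    rw [h2]
    omega
  · rintro ⟨k, j⟩ hx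
    rw [Finset.mem_sigma, Col.mem_below, Finset.mem_range] at hx
    obtain ⟨h1, h2⟩ := hx
    rw [Col.mem_below, le_iff, tl_cs, cs_zero]
    have h3 : k 0 ≤ l 1 := h1 0
    have h4 : l 1 ≤ l 0 := l.anti (Nat.zero_le 1)
    have h2' : j < l 0 - k 0 + 1 := h2
    refine ⟨h1, ?_⟩
    show k 0 + j ≤ l 0
    omega
  · intro k _
    exact cs_tl k
  · rintro ⟨k, j⟩ _
    have h1 : (cs j k) 0 - (cs j k) 1 = j := by
      rw [cs_zero]
      have : cs j k 1 = k 0 := rfl
      rw [this]
      omega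
    simp only [tl_cs, h1]
  · intro k _
    rw [cs_tl]

/-- (I1)  `#Hom(M, N) = ∑_κ #quotients · #submodules · #Aut` as polynomials in the field size -/
theorem I1 (l m : Col) : ∑ k ∈ Col.below l, Np l k * Np m k * ap k = X ^ l.ip m := by
  have key : ∀ b : ℕ, ∀ l m : Col, (∀ i, b ≤ i → l i = 0) →
      ∑ k ∈ Col.below l, Np l k * Np m k * ap k = X ^ l.ip m := by
    intro b
    induction b with
    | zero =>
      intro l m hl
      have hl0 : l = 0 := Col.ext fun i => hl i (Nat.zero_le _)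
      subst hl0
      have h1 : Col.below 0 = {0} := by
        ext k
        rw [Col.mem_below, Finset.mem_singleton]
        constructor
        · intro h
          ext i
          exact Nat.le_zero.1 (h i)
        · rintro rfl
          exact le_rfl
      have h2 : ∀ l : Col, Np l 0 = 1 := fun l => by rw [Np_eq_range l 0 (b := 0) (fun _ _ => rfl)]; simp
      have h3 : ap 0 = 1 := by rw [ap_eq_range 0 (b := 0) (fun _ _ => rfl)]; simp
      rw [h1, Finset.sum_singleton, h2, h2, h3, ip_eq_range 0 m (b := 0) (fun _ _ => rfl)]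
      simp
    | succ b ih =>
      intro l m hl
      rw [sum_below, ip_rec, pow_add, ← ih (tl l) (tl m) (fun i hi => hl (i + 1) (by omega)), Finset.mul_sum]
      refine Finset.sum_congr rfl fun k hk => ?_
      rw [Col.mem_below] at hk
      by_cases hkm : k ≤ tl m
      · have h1 : k 0 ≤ l 0 := (hk 0).trans (l.anti (Nat.zero_le 1))
        have h2 : k 0 ≤ m 0 := (hkm 0).trans (m.anti (Nat.zero_le 1))
        rw [← sum_first h1 h2, Finset.sum_mul]
        refine Finset.sum_congr rfl fun j _ => ?_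
        rw [Np_rec l, Np_rec m, ap_rec, tl_cs]
        have h3 : cs j k 1 = k 0 := rfl
        rw [h3, cs_zero]
        ring
      · rw [Np_eq_zero hkm, mul_zero, zero_mul, mul_zero]
        refine Finset.sum_eq_zero fun j _ => ?_
        rw [Np_rec m, tl_cs, Np_eq_zero hkm, mul_zero, mul_zero, zero_mul]
  exact key l.size l m (eventually_zero l)

end Cfsg.Agent.H521.GU
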