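import Cfsg.Agent.H615.GU.Loc
import Cfsg.Agent.H417.GU.Comm
import Cfsg.Agent.H273.GU.Card

/-!
# S4537, B1: local operators (helper521)

* `I2` : the commutation identity; `Ul_comm`, `Pl_comm_Ul`, `Pl_comm` : the operators `Ul`, `Pl` commute;
* `newton_succ`, `newton_sum` : Newton's identity;
* `Ul_vacl`, `Pl_vacl` : the values at the vacuum; `Dl_vacl`, `Dp_vacl` : the adjoints kill the vacuum;
* `Ul_adj`, `Pl_adj` : adjointness;
* `Ul_conj`, `Dl_conj`, `Pl_conj`, `Dp_conj` : compatibility with the conjugation for real `t`.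
-/

set_option autoImplicit false

open Polynomial
open scoped ComplexConjugate

namespace Cfsg.Agent.H521.GU

open Cfsg.Agent.H615.GU

/-! ### commutation -/

/-- (I2) -/
theorem I2 (l n : Col) (a b : ℕ) (hab : n.size + a + b = l.size) :
    ∑ k ∈ (Col.below l).filter (fun k => k.size = n.size + a), Np l k * Np k n =
      ∑ k ∈ (Col.below l).filter (fun k => k.size = n.size + b), Np l k * Np k n :=
  H417.GU.I2_of (fun _ _ _ _ _ _ _ T hT n => H273.GU.card_sub T hT n)
    (fun F _ _ l => H474.GU.exists_colOf F l) l n a b hab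

section

variable (t : ℂ)

theorem evNp_zero {l k : Col} (h : ¬ k ≤ l) : ev t (Np l k) = 0 := by
  rw [Np_eq_zero h, ev, map_zero]

theorem Ul_apply (j : ℕ) (f : Col → ℂ) (l : Col) :
    Ul t j f l = open Classical in ∑ k ∈ (Col.below l).filter fun k => k.size + j = l.size, ev t (Np l k) * f k := rfl

theorem Dl_apply (j : ℕ) (f : Col → ℂ) (k : Col) :
    Dl t j f k = ev t (ap k) * ∑ l ∈ Col.ofSize (k.size + j), ev t (Np l k) * f l / ev t (ap l) := rfl

theorem Ul_Ul_apply (a b : ℕ) (f : Col → ℂ) (l : Col) :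
    Ul t a (Ul t b f) l = open Classical in
      ∑ n ∈ (Col.below l).filter fun n => n.size + a + b = l.size,
        (∑ k ∈ (Col.below l).filter fun k => k.size = n.size + b, ev t (Np l k) * ev t (Np k n)) * f n := by
  classical
  have h1 : ∀ k ∈ (Col.below l).filter (fun k => k.size + a = l.size), ev t (Np l k) * Ul t b f k =
      ∑ n ∈ (Col.below l).filter (fun n => n.size + b = k.size), ev t (Np l k) * ev t (Np k n) * f n := by
    intro k hk
    rw [Finset.mem_filter, Col.mem_below] at hk
    rw [Ul_apply, Finset.mul_sum]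
    have hsub : (Col.below k).filter (fun n => n.size + b = k.size) ⊆
        (Col.below l).filter (fun n => n.size + b = k.size) := by
      intro n hn
      rw [Finset.mem_filter, Col.mem_below] at hn ⊢
      exact ⟨hn.1.trans hk.1, hn.2⟩
    rw [← Finset.sum_subset hsub]
    · exact Finset.sum_congr rfl fun n _ => by ring
    · intro n hn hn'
      have h2 : ¬ n ≤ k := fun h2 => hn' (by
        rw [Finset.mem_filter, Col.mem_below]
        exact ⟨h2, (Finset.mem_filter.1 hn).2⟩)
      rw [evNp_zero t h2, mul_zero, zero_mul]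
  rw [Ul_apply, Finset.sum_congr rfl h1]
  simp only [Finset.sum_mul]
  refine Finset.sum_comm' fun k n => ?_
  simp only [Finset.mem_filter, Col.mem_below]
  constructor
  · rintro ⟨⟨h1, h2⟩, h3, h4⟩
    exact ⟨⟨h1, h4.symm⟩, h3, by omega⟩
  · rintro ⟨⟨h1, h2⟩, h3, h4⟩
    exact ⟨⟨h1, by omega⟩, h3, h2.symm⟩

/-- the operators `Ul` commute -/
theorem Ul_comm (a b : ℕ) : Commute (Ul t a) (Ul t b) := by
  classical
  refine LinearMap.ext fun f => funext fun l => ?_
  rw [Module.End.mul_apply, Module.End.mul_apply, Ul_Ul_apply, Ul_Ul_apply]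
  refine Finset.sum_congr (Finset.filter_congr fun n _ => by omega) fun n hn => ?_
  have h : n.size + b + a = l.size := by
    have := (Finset.mem_filter.1 hn).2
    omega
  have h1 := congrArg (ev t) (I2 l n b a h)
  simp only [ev, map_sum, map_mul] at h1
  simp only [ev]
  rw [h1]

end

/-! ### Newton -/

section Newton

variable {A : Type*} [Ring A]

/-- Newton's power sums (`H531.GU.nwt`) -/
abbrev newton (h : ℕ → A) : ℕ → A := H531.GU.nwt h

theorem newton_zero (h : ℕ → A) : newton h 0 = 0 := H531.GU.nwt_zero h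

theorem newton_succ (h : ℕ → A) (k : ℕ) :
    newton h (k + 1) = (k + 1 : ℕ) • h (k + 1) - ∑ i ∈ Finset.range k, newton h (i + 1) * h (k - i) := by
  rw [newton, H531.GU.nwt_succ, Finset.sum_range_succ', H531.GU.nwt_zero, zero_mul, add_zero]
  simp only [Nat.succ_sub_succ]

/-- Newton's identity -/
theorem newton_sum {h : ℕ → A} (h0 : h 0 = 1) (k : ℕ) :
    k • h k = ∑ i ∈ Finset.range k, newton h (i + 1) * h (k - 1 - i) := by
  cases k with
  | zero => simp
  | succ k =>
    rw [Finset.sum_range_succ, Nat.add_sub_cancel, Nat.sub_self, h0, mul_one, newton_succ]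
    abel

theorem newton_commute {x : A} {h : ℕ → A} (hx : ∀ j, Commute x (h j)) (m : ℕ) : Commute x (newton h m) := by
  induction m using Nat.strong_induction_on with
  | _ m ih =>
    cases m with
    | zero => rw [newton_zero]; exact Commute.zero_right x
    | succ m =>
      rw [newton_succ]
      refine ((hx _).smul_right _).sub_right (Commute.sum_right _ _ _ fun i hi => ?_)
      have hi' := Finset.mem_range.1 hi
      exact (ih (i + 1) (by omega)).mul_right (hx _)

end Newton

section

variable (t : ℂ)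

theorem Pl_comm_Ul (a b : ℕ) : Commute (Pl t a) (Ul t b) :=
  (newton_commute (fun j => Ul_comm t b j) a).symm

theorem Pl_comm (a b : ℕ) : Commute (Pl t a) (Pl t b) :=
  newton_commute (fun j => Pl_comm_Ul t a j) b

theorem Pl_zero : Pl t 0 = 0 := newton_zero _

theorem Dp_zero : Dp t 0 = 0 := newton_zero _

theorem Pl_succ (k : ℕ) :
    Pl t (k + 1) = (k + 1 : ℕ) • Ul t (k + 1) - ∑ i ∈ Finset.range k, Pl t (i + 1) * Ul t (k - i) :=
  newton_succ _ k

theorem Dp_succ (k : ℕ) :
    Dp t (k + 1) = (k + 1 : ℕ) • Dl t (k + 1) - ∑ i ∈ Finset.range k, Dp t (i + 1) * Dl t (k - i) :=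
  newton_succ _ k

theorem Pl_succ' (k : ℕ) :
    Pl t (k + 1) = (k + 1 : ℕ) • Ul t (k + 1) - ∑ i ∈ Finset.range k, Ul t (k - i) * Pl t (i + 1) := by
  rw [Pl_succ]
  congr 1
  exact Finset.sum_congr rfl fun i _ => Pl_comm_Ul t (i + 1) (k - i)

theorem below_self_filter (l : Col) : (open Classical in (Col.below l).filter fun k => k.size + 0 = l.size) = {l} := by
  classical
  ext k
  rw [Finset.mem_filter, Col.mem_below, Finset.mem_singleton]
  constructor
  · rintro ⟨h1, h2⟩
    rw [add_zero] at h2
    have hk := Col.size_eq_sum_range (l := k) (b := l.size) h2.le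
    have hl := Col.size_eq_sum_range (l := l) (b := l.size) le_rfl
    have h3 : ∑ i ∈ Finset.range l.size, k i = ∑ i ∈ Finset.range l.size, l i := by rw [← hk, ← hl, h2]
    have h4 := (Finset.sum_eq_sum_iff_of_le fun i _ => h1 i).1 h3
    ext i
    by_cases hi : i < l.size
    · exact h4 i (Finset.mem_range.2 hi)
    · rw [Col.apply_of_size_le (l := k) (by omega), Col.apply_of_size_le (l := l) (by omega)]
  · rintro rfl
    exact ⟨le_rfl, rfl⟩

theorem Ul_zero : Ul t 0 = 1 := by
  classical
  refine LinearMap.ext fun f => funext fun l => ?_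
  rw [Ul_apply, below_self_filter, Finset.sum_singleton, Np_self, ev, map_one, one_mul]
  rfl

/-- Newton's identity for the local operators -/
theorem Ul_newton (k : ℕ) : k • Ul t k = ∑ i ∈ Finset.range k, Pl t (i + 1) * Ul t (k - 1 - i) :=
  newton_sum (Ul_zero t) k

/-! ### the vacuum -/

theorem Dl_vacl {j : ℕ} (hj : 0 < j) : Dl t j vacl = 0 := by
  funext k
  rw [Dl_apply]
  have h : ∀ l ∈ Col.ofSize (k.size + j), ev t (Np l k) * vacl l / ev t (ap l) = 0 := by
    intro l hl
    have hl' := Col.mem_ofSize.1 hl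
    have h0 : l ≠ 0 := by
      rintro rfl
      rw [Col.size_zero] at hl'
      omega
    rw [vacl, if_neg h0, mul_zero, zero_div]
  rw [Finset.sum_eq_zero h, mul_zero]
  rfl

theorem Dp_vacl {k : ℕ} : Dp t k vacl = 0 := by
  induction k using Nat.strong_induction_on with
  | _ k ih =>
    cases k with
    | zero => rw [Dp_zero]; rfl
    | succ k =>
      rw [Dp_succ, LinearMap.sub_apply, LinearMap.smul_apply, Dl_vacl t (Nat.succ_pos k), smul_zero, zero_sub,
        LinearMap.sum_apply, neg_eq_zero]
      refine Finset.sum_eq_zero fun i hi => ?_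
      have hi' := Finset.mem_range.1 hi
      rw [Module.End.mul_apply, Dl_vacl t (by omega), map_zero]

theorem Np_col_zero (l : Col) : Np l 0 = 1 := by
  rw [Np]
  have : (0 : Col).1.support = ∅ := rfl
  rw [this, Finset.prod_empty]

theorem Ul_vacl (j : ℕ) (l : Col) : Ul t j vacl l = if l.size = j then 1 else 0 := by
  classical
  rw [Ul_apply]
  by_cases h : l.size = j
  · rw [if_pos h, Finset.sum_eq_single (0 : Col)]
    · rw [Np_col_zero, ev, map_one, one_mul, vacl, if_pos rfl]
    · intro k _ hk
      rw [vacl, if_neg hk, mul_zero]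
    · intro h0
      refine absurd ?_ h0
      rw [Finset.mem_filter, Col.mem_below, Col.size_zero, zero_add]
      exact ⟨fun i => Nat.zero_le _, h.symm⟩
  · rw [if_neg h]
    refine Finset.sum_eq_zero fun k hk => ?_
    rw [Finset.mem_filter] at hk
    have hk0 : k ≠ 0 := by
      rintro rfl
      rw [Col.size_zero, zero_add] at hk
      exact h hk.2.symm
    rw [vacl, if_neg hk0, mul_zero]

end

/-! ### the value of the power sums at the vacuum -/

/-- `∏_{0 < i < n} (1 - X^i)`, and `0` for `n = 0` -/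
noncomputable def ph : ℕ → ℤ[X]
  | 0 => 0
  | n + 1 => ∏ i ∈ Finset.range n, (1 - X ^ (i + 1))

theorem ph_zero : ph 0 = 0 := rfl
theorem ph_one : ph 1 = 1 := rfl

theorem ph_succ (n : ℕ) : ph (n + 2) = ph (n + 1) * (1 - X ^ (n + 1)) := by
  rw [ph, Finset.prod_range_succ]; rfl

theorem ph_add {b : ℕ} (hb : 0 < b) (j : ℕ) : ph (b + j) = ph b * ∏ i ∈ Finset.range j, (1 - X ^ (b + i)) := by
  obtain ⟨c, rfl⟩ : ∃ c, b = c + 1 := ⟨b - 1, by omega⟩
  induction j with
  | zero => simp
  | succ j ih =>
    have e : c + 1 + (j + 1) = c + j + 2 := by omega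
    have e1 : c + 1 + j = c + j + 1 := by omega
    rw [Finset.prod_range_succ, ← mul_assoc, ← ih, e, e1, ph_succ]

/-- `∑_j [A; j] t^(b (A - j)) ∏_{b ≤ i < b + j} (1 - t^i) = 1` -/
theorem sum_gb_ph (b A : ℕ) : ∑ j ∈ Finset.range (A + 1),
    X ^ (b * (A - j)) * gb A j * ∏ i ∈ Finset.range j, (1 - X ^ (b + i)) = (1 : ℤ[X]) := by
  induction A with
  | zero => simp
  | succ A ih =>
    rw [Finset.sum_range_succ', gb_zero, Finset.prod_range_zero, mul_one, mul_one, Nat.sub_zero]
    have h1 : ∀ j ∈ Finset.range (A + 1), X ^ (b * (A + 1 - (j + 1))) * gb (A + 1) (j + 1) *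
        ∏ i ∈ Finset.range (j + 1), (1 - X ^ (b + i)) =
        X ^ (j + 1) * (X ^ (b * (A - j)) * gb A (j + 1) * ∏ i ∈ Finset.range (j + 1), (1 - (X : ℤ[X]) ^ (b + i))) +
        X ^ (b * (A - j)) * gb A j * (∏ i ∈ Finset.range j, (1 - X ^ (b + i))) * (1 - X ^ (b + j)) := by
      intro j _
      rw [gb_succ, Nat.succ_sub_succ, Finset.prod_range_succ]
      ring
    rw [Finset.sum_congr rfl h1, Finset.sum_add_distrib]
    have h2 : ∑ j ∈ Finset.range (A + 1), X ^ (j + 1) * (X ^ (b * (A - j)) * gb A (j + 1) *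
          ∏ i ∈ Finset.range (j + 1), (1 - (X : ℤ[X]) ^ (b + i))) + X ^ (b * (A + 1)) =
        ∑ j ∈ Finset.range (A + 1), X ^ j * (X ^ b * (X ^ (b * (A - j)) * gb A j *
          ∏ i ∈ Finset.range j, (1 - X ^ (b + i)))) := by
      rw [Finset.sum_range_succ (fun j => X ^ (j + 1) * (X ^ (b * (A - j)) * gb A (j + 1) *
          ∏ i ∈ Finset.range (j + 1), (1 - (X : ℤ[X]) ^ (b + i)))),
        gb_eq_zero (Nat.lt_succ_self A), mul_zero, zero_mul, mul_zero, add_zero,
        Finset.sum_range_succ' (fun j => X ^ j * (X ^ b * (X ^ (b * (A - j)) * gb A j *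
          ∏ i ∈ Finset.range j, (1 - (X : ℤ[X]) ^ (b + i))))), gb_zero, Finset.prod_range_zero, pow_zero]
      congr 1
      · refine Finset.sum_congr rfl fun j hj => ?_
        have hj' := Finset.mem_range.1 hj
        have e : b * (A - j) = b + b * (A - (j + 1)) := by
          obtain ⟨c, rfl⟩ : ∃ c, A = j + 1 + c := ⟨A - (j + 1), by omega⟩
          have e1 : j + 1 + c - j = c + 1 := by omega
          rw [e1, Nat.add_sub_cancel_left]
          ring
        rw [e, pow_add]
        ring
      · rw [Nat.sub_zero]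
        ring
    calc _ = (∑ j ∈ Finset.range (A + 1), X ^ (j + 1) * (X ^ (b * (A - j)) * gb A (j + 1) *
          ∏ i ∈ Finset.range (j + 1), (1 - (X : ℤ[X]) ^ (b + i))) + X ^ (b * (A + 1))) +
          ∑ j ∈ Finset.range (A + 1), X ^ (b * (A - j)) * gb A j *
            (∏ i ∈ Finset.range j, (1 - X ^ (b + i))) * (1 - X ^ (b + j)) := by ring
      _ = ∑ j ∈ Finset.range (A + 1),
            X ^ (b * (A - j)) * gb A j * ∏ i ∈ Finset.range j, (1 - X ^ (b + i)) := by
          rw [h2, ← Finset.sum_add_distrib]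
          refine Finset.sum_congr rfl fun j _ => ?_
          rw [pow_add]
          ring
      _ = 1 := ih

/-- `∑_{j > 0} [A; j] ∏_{0 < i < j} (1 - t^i) = A` -/
theorem sum_gb_ph0 (A : ℕ) : ∑ j ∈ Finset.range (A + 1), gb A j * ph j = (A : ℤ[X]) := by
  induction A with
  | zero => simp [ph_zero]
  | succ A ih =>
    rw [Finset.sum_range_succ', ph_zero, mul_zero, add_zero]
    have h1 : ∀ j ∈ Finset.range (A + 1), gb (A + 1) (j + 1) * ph (j + 1) =
        X ^ (j + 1) * (gb A (j + 1) * ph (j + 1)) + gb A j * ph (j + 1) := by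
      intro j _
      rw [gb_succ]
      ring
    rw [Finset.sum_congr rfl h1, Finset.sum_add_distrib,
      Finset.sum_range_succ (fun j => X ^ (j + 1) * (gb A (j + 1) * ph (j + 1))),
      gb_eq_zero (Nat.lt_succ_self A), zero_mul, mul_zero, add_zero,
      Finset.sum_range_succ' (fun j => gb A j * ph (j + 1)), gb_zero, ph_one, one_mul, ← add_assoc,
      ← Finset.sum_add_distrib, Nat.cast_succ, ← ih,
      Finset.sum_range_succ' (fun j => gb A j * ph j), ph_zero, mul_zero, add_zero]
    congr 1
    refine Finset.sum_congr rfl fun j _ => ?_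
    rw [ph_succ]
    ring

theorem size_tl (l : Col) : l.size = l 0 + (tl l).size := by
  have h1 : (tl l).size ≤ l.size := by
    have h2 : ∑ i ∈ Finset.range (tl l).size, tl l i ≤ ∑ i ∈ Finset.range ((tl l).size + l.size + 1), l i := by
      calc ∑ i ∈ Finset.range (tl l).size, tl l i ≤ ∑ i ∈ Finset.range (tl l).size, l i :=
            Finset.sum_le_sum fun i _ => l.anti (Nat.le_succ i)
        _ ≤ _ := Finset.sum_le_sum_of_subset (Finset.range_subset_range.2 (by omega))
    rwa [← Col.size_eq_sum_range le_rfl, ← Col.size_eq_sum_range (by omega)] at h2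
  rw [Col.size_eq_sum_range (l := l) (b := l.size + 1) (by omega), Finset.sum_range_succ',
    Col.size_eq_sum_range (l := tl l) (b := l.size) h1, add_comm]
  rfl

theorem ph_id_step (l : Col) : ∑ m ∈ Col.below l, Np l m * ph (m 0) =
    (l 0 : ℤ[X]) + ∑ k ∈ Col.below (tl l), Np (tl l) k * ph (k 0) := by
  rw [sum_below]
  have hz : (0 : Col) ∈ Col.below (tl l) := Col.mem_below.2 fun i => Nat.zero_le _
  rw [← Finset.add_sum_erase _ _ hz, ← Finset.add_sum_erase _ (fun k => Np (tl l) k * ph (k 0)) hz]
  have h1 : ∑ j ∈ Finset.range (l 0 - (0 : Col) 0 + 1), Np l (cs j 0) * ph (cs j 0 0) = (l 0 : ℤ[X]) := by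
    rw [← sum_gb_ph0 (l 0), Col.zero_apply, Nat.sub_zero]
    refine Finset.sum_congr rfl fun j _ => ?_
    rw [Np_rec, tl_cs, Np_col_zero, cs_zero, Col.zero_apply, zero_add]
    have h2 : (cs j 0 : Col) 1 = 0 := rfl
    rw [h2, zero_mul, pow_zero, Nat.sub_zero, Nat.sub_zero, one_mul, mul_one]
  rw [h1]
  have h0 : Np (tl l) 0 * ph ((0 : Col) 0) = 0 := by rw [Col.zero_apply, ph_zero, mul_zero]
  rw [h0, zero_add]
  congr 1
  refine Finset.sum_congr rfl fun k hk => ?_
  obtain ⟨hk0, hk1⟩ := Finset.mem_erase.1 hk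
  rw [Col.mem_below] at hk1
  have hb : 0 < k 0 := by
    rw [Nat.pos_iff_ne_zero]
    intro h
    exact hk0 (Col.ext fun i => Nat.le_zero.1 ((k.anti (Nat.zero_le i)).trans_eq h))
  have hle : k 0 ≤ l 0 := (hk1 0).trans (l.anti (Nat.zero_le 1))
  have h2 : ∀ j ∈ Finset.range (l 0 - k 0 + 1), Np l (cs j k) * ph (cs j k 0) =
      (X ^ (k 0 * (l 0 - k 0 - j)) * gb (l 0 - k 0) j * ∏ i ∈ Finset.range j, (1 - X ^ (k 0 + i))) *
        (Np (tl l) k * ph (k 0)) := by
    intro j _
    rw [Np_rec, tl_cs, cs_zero, ph_add hb]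
    have h3 : (cs j k : Col) 1 = k 0 := rfl
    rw [h3, Nat.add_sub_cancel_left, Nat.sub_sub]
    ring
  rw [Finset.sum_congr rfl h2, ← Finset.sum_mul, sum_gb_ph, one_mul]

/-- `|l| = ∑_{0 ≠ m ≤ l} Np l m ∏_{0 < i < m 0} (1 - t^i)` -/
theorem ph_id (l : Col) : ∑ m ∈ Col.below l, Np l m * ph (m 0) = (l.size : ℤ[X]) := by
  have key : ∀ b : ℕ, ∀ l : Col, (∀ i, b ≤ i → l i = 0) → ∑ m ∈ Col.below l, Np l m * ph (m 0) = (l.size : ℤ[X]) := by
    intro b
    induction b with
    | zero =>
      intro l hl
      have hl0 : l = 0 := Col.ext fun i => hl i (Nat.zero_le _)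
      subst hl0
      rw [Col.size_zero, Nat.cast_zero]
      refine Finset.sum_eq_zero fun m hm => ?_
      have hm0 : m 0 = 0 := Nat.le_zero.1 (Col.mem_below.1 hm 0)
      rw [hm0, ph_zero, mul_zero]
    | succ b ih =>
      intro l hl
      rw [ph_id_step, ih (tl l) (fun i hi => hl (i + 1) (by omega)), size_tl l, Nat.cast_add]
  exact key l.size l (eventually_zero l)

section

variable (t : ℂ)

theorem Pl_vacl_ph (k : ℕ) (l : Col) : Pl t k vacl l = if l.size = k then ev t (ph (l 0)) else 0 := by
  classical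
  induction k using Nat.strong_induction_on generalizing l with
  | _ k ih =>
    cases k with
    | zero =>
      rw [Pl_zero]
      show (0 : ℂ) = _
      by_cases h : l.size = 0
      · have h0 : l 0 = 0 := Nat.le_zero.1 ((l.apply_le_size 0).trans_eq h)
        rw [if_pos h, h0, ph_zero, ev, map_zero]
      · rw [if_neg h]
    | succ k =>
      rw [Pl_succ', LinearMap.sub_apply, Pi.sub_apply, LinearMap.smul_apply, Pi.smul_apply, Ul_vacl,
        LinearMap.sum_apply, Finset.sum_apply]
      have h1 : ∀ i ∈ Finset.range k, (Ul t (k - i) * Pl t (i + 1)) vacl l =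
          if l.size = k + 1 then ∑ m ∈ (Col.below l).filter (fun m => m.size = i + 1), ev t (Np l m) * ev t (ph (m 0))
            else 0 := by
        intro i hi
        have hi' := Finset.mem_range.1 hi
        rw [Module.End.mul_apply, Ul_apply]
        by_cases h : l.size = k + 1
        · rw [if_pos h]
          refine Finset.sum_congr (Finset.filter_congr fun m _ => by omega) fun m hm => ?_
          have hm' := (Finset.mem_filter.1 hm).2
          rw [ih (i + 1) (by omega), if_pos hm']
        · rw [if_neg h]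
          refine Finset.sum_eq_zero fun m hm => ?_
          have hm' := (Finset.mem_filter.1 hm).2
          rw [ih (i + 1) (by omega), if_neg (by omega), mul_zero]
      rw [Finset.sum_congr rfl h1]
      by_cases h : l.size = k + 1
      · simp only [if_pos h]
        have h2 := congrArg (ev t) (ph_id l)
        simp only [ev, map_sum, map_mul, map_natCast] at h2
        have h3 : ∑ m ∈ Col.below l, ev t (Np l m) * ev t (ph (m 0)) =
            ∑ i ∈ Finset.range (k + 2), ∑ m ∈ (Col.below l).filter (fun m => m.size = i),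
              ev t (Np l m) * ev t (ph (m 0)) := by
          rw [Finset.sum_fiberwise_of_maps_to]
          intro m hm
          rw [Finset.mem_range]
          have := Col.size_mono (Col.mem_below.1 hm)
          omega
        have h4 : ∑ m ∈ (Col.below l).filter (fun m => m.size = 0), ev t (Np l m) * ev t (ph (m 0)) = 0 := by
          refine Finset.sum_eq_zero fun m hm => ?_
          have hm' := (Finset.mem_filter.1 hm).2
          have h0 : m 0 = 0 := Nat.le_zero.1 ((m.apply_le_size 0).trans_eq hm')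
          rw [h0, ph_zero, show ev t (0 : ℤ[X]) = 0 from map_zero _, mul_zero]
        have h5 : ∑ m ∈ (Col.below l).filter (fun m => m.size = k + 1), ev t (Np l m) * ev t (ph (m 0)) =
            ev t (ph (l 0)) := by
          have h6 : (Col.below l).filter (fun m => m.size = k + 1) = {l} := by
            rw [← below_self_filter l]
            exact Finset.filter_congr fun m _ => by omega
          rw [h6, Finset.sum_singleton, Np_self, ev, map_one, one_mul]
        rw [Finset.sum_range_succ, Finset.sum_range_succ', h4, h5, add_zero] at h3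
        simp only [ev] at h3 ⊢
        rw [h3, h] at h2
        rw [nsmul_eq_mul, mul_one]
        push_cast at h2 ⊢
        linear_combination -h2
      · simp only [if_neg h, smul_zero, Finset.sum_const_zero, sub_zero]

theorem ev_ph (n : ℕ) : ev t (ph (n + 1)) = ∏ i ∈ Finset.range n, (1 - t ^ (i + 1)) := by
  rw [ev, ph, map_prod]
  refine Finset.prod_congr rfl fun i _ => ?_
  rw [map_sub, map_one, map_pow, aeval_X]

/-- the value of the power sum at the vacuum -/
theorem Pl_vacl {k : ℕ} (hk : 0 < k) (l : Col) :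
    Pl t k vacl l = if l.size = k then ∏ i ∈ Finset.range (l 0 - 1), (1 - t ^ (i + 1)) else 0 := by
  rw [Pl_vacl_ph]
  by_cases h : l.size = k
  · rw [if_pos h, if_pos h]
    have h0 : l 0 ≠ 0 := by
      intro h0
      have h1 : l = 0 := Col.ext fun i => Nat.le_zero.1 ((l.anti (Nat.zero_le i)).trans_eq h0)
      rw [h1, Col.size_zero] at h
      omega
    obtain ⟨n, hn⟩ := Nat.exists_eq_succ_of_ne_zero h0
    rw [hn, Nat.succ_eq_add_one, ev_ph, Nat.add_sub_cancel]
  · rw [if_neg h, if_neg h]

/-! ### adjointness -/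

variable {t} (h0 : t ≠ 0) (ht : ∀ i : ℕ, 0 < i → t ^ i ≠ 1)
include h0 ht

/-- `Dl` is the adjoint of `Ul` -/
theorem Ul_adj (n j : ℕ) (f g : Col → ℂ) :
    ∑ l ∈ Col.ofSize (n + j), Ul t j f l * g l / ev t (ap l) =
      ∑ k ∈ Col.ofSize n, f k * Dl t j g k / ev t (ap k) := by
  classical
  have h1 : ∀ l ∈ Col.ofSize (n + j), Ul t j f l * g l / ev t (ap l) =
      ∑ k ∈ Col.ofSize n, f k * (ev t (Np l k) * g l / ev t (ap l)) := by
    intro l hl
    rw [Col.mem_ofSize] at hl
    rw [Ul_apply, Finset.sum_mul, Finset.sum_div]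
    have hsub : (Col.below l).filter (fun k => k.size + j = l.size) ⊆ Col.ofSize n := by
      intro k hk
      rw [Col.mem_ofSize]
      have := (Finset.mem_filter.1 hk).2
      omega
    rw [← Finset.sum_subset hsub]
    · exact Finset.sum_congr rfl fun k _ => by ring
    · intro k hk hk'
      have h2 : ¬ k ≤ l := fun h2 => hk' (by
        rw [Finset.mem_filter, Col.mem_below]
        exact ⟨h2, by rw [Col.mem_ofSize.1 hk, hl]⟩)
      rw [evNp_zero t h2, zero_mul, zero_div, mul_zero]
  rw [Finset.sum_congr rfl h1, Finset.sum_comm]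
  refine Finset.sum_congr rfl fun k hk => ?_
  rw [Col.mem_ofSize] at hk
  rw [Dl_apply, hk, ← Finset.mul_sum]
  have h3 := ev_ap_ne_zero h0 ht k
  field_simp

/-- `Dp` is the adjoint of `Pl` -/
theorem Pl_adj (n j : ℕ) (f g : Col → ℂ) :
    ∑ l ∈ Col.ofSize (n + j), Pl t j f l * g l / ev t (ap l) =
      ∑ k ∈ Col.ofSize n, f k * Dp t j g k / ev t (ap k) := by
  induction j using Nat.strong_induction_on generalizing n f g with
  | _ j ih =>
    cases j with
    | zero =>
      rw [Pl_zero, Dp_zero]
      simp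
    | succ j =>
      have h1 : ∀ l, Pl t (j + 1) f l * g l / ev t (ap l) = ((j + 1 : ℕ) : ℂ) * (Ul t (j + 1) f l * g l / ev t (ap l)) -
          ∑ i ∈ Finset.range j, Ul t (j - i) (Pl t (i + 1) f) l * g l / ev t (ap l) := by
        intro l
        rw [Pl_succ', LinearMap.sub_apply, Pi.sub_apply, LinearMap.smul_apply, Pi.smul_apply,
          LinearMap.sum_apply, Finset.sum_apply, nsmul_eq_mul, ← Finset.sum_div, ← Finset.sum_mul]
        simp only [Module.End.mul_apply]
        ring
      have h2 : ∀ k, f k * Dp t (j + 1) g k / ev t (ap k) = ((j + 1 : ℕ) : ℂ) * (f k * Dl t (j + 1) g k / ev t (ap k)) -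
          ∑ i ∈ Finset.range j, f k * Dp t (i + 1) (Dl t (j - i) g) k / ev t (ap k) := by
        intro k
        rw [Dp_succ, LinearMap.sub_apply, Pi.sub_apply, LinearMap.smul_apply, Pi.smul_apply,
          LinearMap.sum_apply, Finset.sum_apply, nsmul_eq_mul, ← Finset.sum_div, ← Finset.mul_sum]
        simp only [Module.End.mul_apply]
        ring
      rw [Finset.sum_congr rfl fun l _ => h1 l, Finset.sum_congr rfl fun k _ => h2 k,
        Finset.sum_sub_distrib, Finset.sum_sub_distrib, ← Finset.mul_sum, ← Finset.mul_sum, Ul_adj h0 ht,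
        Finset.sum_comm, Finset.sum_comm (s := Col.ofSize n)]
      congr 1
      refine Finset.sum_congr rfl fun i hi => ?_
      have hi' := Finset.mem_range.1 hi
      rw [← ih (i + 1) (by omega) n f (Dl t (j - i) g)]
      have e : n + (j + 1) = n + (i + 1) + (j - i) := by omega
      rw [e, Ul_adj h0 ht]

end

/-! ### conjugation -/

section

variable {t : ℂ} (hr : conj t = t)
include hr

theorem ev_conj (P : ℤ[X]) : conj (ev t P) = ev t P := by
  have h : ev (conj t) P = conj (ev t P) := by
    rw [ev, ev, Polynomial.aeval_def, Polynomial.aeval_def, Polynomial.hom_eval₂]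
    congr 1
    exact RingHom.ext_int _ _
  rw [← h, hr]

theorem Ul_conj (j : ℕ) (f : Col → ℂ) : Ul t j (fun l => conj (f l)) = fun l => conj (Ul t j f l) := by
  funext l
  rw [Ul_apply, Ul_apply, map_sum]
  refine Finset.sum_congr rfl fun k _ => ?_
  rw [map_mul, ev_conj hr]

theorem Dl_conj (j : ℕ) (f : Col → ℂ) : Dl t j (fun l => conj (f l)) = fun l => conj (Dl t j f l) := by
  funext l
  rw [Dl_apply, Dl_apply, map_mul, map_sum, ev_conj hr]
  congr 1
  refine Finset.sum_congr rfl fun k _ => ?_
  rw [map_div₀, map_mul, ev_conj hr, ev_conj hr]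

omit hr in
theorem newton_conj {h : ℕ → Module.End ℂ (Col → ℂ)}
    (hh : ∀ (j : ℕ) (f : Col → ℂ), h j (fun l => conj (f l)) = fun l => conj (h j f l)) (j : ℕ) (f : Col → ℂ) :
    newton h j (fun l => conj (f l)) = fun l => conj (newton h j f l) := by
  induction j using Nat.strong_induction_on generalizing f with
  | _ j ih =>
    cases j with
    | zero =>
      rw [newton_zero]
      funext l
      show (0 : ℂ) = conj (0 : ℂ)
      rw [map_zero]
    | succ j =>
      funext l
      rw [newton_succ, LinearMap.sub_apply, Pi.sub_apply, LinearMap.smul_apply, Pi.smul_apply,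
        LinearMap.sum_apply, Finset.sum_apply, LinearMap.sub_apply, Pi.sub_apply, LinearMap.smul_apply,
        Pi.smul_apply, LinearMap.sum_apply, Finset.sum_apply, map_sub, map_sum, map_nsmul, hh]
      congr 1
      refine Finset.sum_congr rfl fun i hi => ?_
      have hi' := Finset.mem_range.1 hi
      rw [Module.End.mul_apply, Module.End.mul_apply, hh, ih (i + 1) (by omega)]

theorem Pl_conj (j : ℕ) (f : Col → ℂ) : Pl t j (fun l => conj (f l)) = fun l => conj (Pl t j f l) :=
  newton_conj (Ul_conj hr) j f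

theorem Dp_conj (j : ℕ) (f : Col → ℂ) : Dp t j (fun l => conj (f l)) = fun l => conj (Dp t j f l) :=
  newton_conj (Dl_conj hr) j f

end

end Cfsg.Agent.H521.GU
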